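import Groth.Agent.Lib.NormalExt.Basic
import Groth.Agent.Lib.GrpSchField.Components
import Groth.Agent.Lib.FEt21.NormalComp
import Groth.Agent.Lib.UnrMono.SmoothNormal
import Groth.Agent.Lib.FppfSource.Scheme
import Groth.Prelude.Def_Pi1
import Mathlib.AlgebraicGeometry.Morphisms.QuasiFinite
import Mathlib.AlgebraicGeometry.Morphisms.Smooth

/-!
# Rational maps from normal schemes to schemes finite over the base
-/

set_option autoImplicit false
set_option linter.all false
set_option backward.isDefEq.respectTransparency false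

universe u

open CategoryTheory CategoryTheory.Limits AlgebraicGeometry

noncomputable section

namespace GrothLib.NeronFin13

variable {Z : Scheme.{u}} [IsLocallyNoetherian Z] (hZ : Pi1.IsNormalScheme Z)

include hZ in
theorem component_eq {C₁ C₂ : Set Z} (h₁ : C₁ ∈ irreducibleComponents Z) (h₂ : C₂ ∈ irreducibleComponents Z)
    {x : Z} (hx₁ : x ∈ C₁) (hx₂ : x ∈ C₂) : C₁ = C₂ :=
  FEt21.components_eq_of_mem (fun z => (hZ z).1) h₁ h₂ hx₁ hx₂

include hZ in
theorem isOpen_component (C : Set Z) (hC : C ∈ irreducibleComponents Z) : IsOpen C :=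
  GrpSchField.isOpen_irreducibleComponent_of_disjoint
    (fun _ h₁ _ h₂ _ hx₁ hx₂ => component_eq hZ h₁ h₂ hx₁ hx₂) C hC

omit [IsLocallyNoetherian Z] in
include hZ in
theorem isReduced_normal : IsReduced Z :=
  haveI : ∀ x : Z, _root_.IsReduced (Z.presheaf.stalk x) := fun x => by
    haveI := (hZ x).1; infer_instance
  isReduced_of_isReduced_stalk Z

include hZ in
/-- A rational section of an integral morphism to a normal scheme extends. -/
theorem exists_section {P : Scheme.{u}} (g : P ⟶ Z) [IsIntegralHom g] {Z₀ : Scheme.{u}} (i : Z₀ ⟶ Z)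
    [IsOpenImmersion i] (hi : DenseRange i) (t₀ : Z₀ ⟶ P) (ht₀ : t₀ ≫ g = i) :
    ∃ σ : Z ⟶ P, σ ≫ g = 𝟙 Z ∧ i ≫ σ = t₀ := by
  haveI := isReduced_normal hZ
  let J := {C : Set Z // C ∈ irreducibleComponents Z}
  let O : J → Z.Opens := fun C => ⟨C.1, isOpen_component hZ C.1 C.2⟩
  have hint : ∀ C : J, IsIntegral (O C : Scheme.{u}) := fun C => by
    haveI : IrreducibleSpace ↥(O C : Scheme.{u}) := Subtype.irreducibleSpace C.2.1
    exact isIntegral_of_irreducibleSpace_of_isReduced _
  have hloc : ∀ C : J, ∃ σ : (O C : Scheme.{u}) ⟶ P, σ ≫ g = (O C).ι ∧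
      pullback.snd i (O C).ι ≫ σ = pullback.fst i (O C).ι ≫ t₀ := fun C => by
    haveI := hint C
    let η := genericPoint (O C : Scheme.{u})
    have hr : Set.range ((O C : Scheme.{u}).fromSpecStalk η) ⊆ Set.range (pullback.snd i (O C).ι) := by
      rw [Scheme.range_fromSpecStalk]
      intro w hw
      have hne : ((O C : Scheme.{u}) : Type u) := η
      obtain ⟨y, hy⟩ := hi.exists_mem_open (O C).2 ⟨_, (η : (O C : Scheme.{u})).2⟩
      have hmem : (⟨i y, hy⟩ : (O C : Scheme.{u})) ∈ Set.range (pullback.snd i (O C).ι) := by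
        obtain ⟨c, -, hc⟩ := Scheme.Pullback.exists_preimage_pullback y (⟨i y, hy⟩ : (O C : Scheme.{u}))
          (f := i) (g := (O C).ι) rfl
        exact ⟨c, hc⟩
      exact (hw.trans (genericPoint_specializes _)).mem_open
        (pullback.snd i (O C).ι).isOpenEmbedding.isOpen_range hmem
    let l := IsOpenImmersion.lift (pullback.snd i (O C).ι) _ hr
    let t : Spec (O C : Scheme.{u}).functionField ⟶ pullback g (O C).ι :=
      pullback.lift (l ≫ pullback.fst i (O C).ι ≫ t₀) ((O C : Scheme.{u}).fromSpecStalk η) (by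
        rw [Category.assoc, Category.assoc, ht₀, pullback.condition, ← Category.assoc,
          IsOpenImmersion.lift_fac])
    haveI : IsIntegralHom (pullback.snd g (O C).ι) := MorphismProperty.pullback_snd _ _ inferInstance
    have hn : ∀ x : (O C : Scheme.{u}), IsIntegrallyClosed ((O C : Scheme.{u}).presheaf.stalk x) := fun x =>
      haveI := (hZ ((O C).ι x)).2
      IsIntegrallyClosed.of_equiv (asIso ((O C).ι.stalkMap x)).commRingCatIsoToRingEquiv
    obtain ⟨s, hs₁, hs₂⟩ := NormalExt.exists_section hn (pullback.snd g (O C).ι) t (pullback.lift_snd _ _ _)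
    refine ⟨s ≫ pullback.fst g (O C).ι, by rw [Category.assoc, pullback.condition, reassoc_of% hs₁], ?_⟩
    haveI : IsDominant (l ≫ pullback.snd i (O C).ι) := by
      rw [IsOpenImmersion.lift_fac]
      exact NormalExt.isDominant_fromSpecStalk_genericPoint
    haveI : IsDominant l := IsDominant.of_comp_of_isOpenImmersion l (pullback.snd i (O C).ι)
    haveI := isReduced_of_isOpenImmersion (pullback.snd i (O C).ι)
    refine ext_of_isDominant_of_isSeparated g ?_ l ?_
    · rw [Category.assoc, Category.assoc, pullback.condition, reassoc_of% hs₁, Category.assoc, ht₀,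
        pullback.condition]
    · rw [← Category.assoc l, IsOpenImmersion.lift_fac, ← Category.assoc, hs₂, pullback.lift_fst]
  choose σ hσ hσ₀ using hloc
  let 𝒰 := Z.openCoverOfIsOpenCover O (top_le_iff.mp fun x _ => TopologicalSpace.Opens.mem_iSup.mpr
    ⟨⟨_, irreducibleComponent_mem_irreducibleComponents x⟩, mem_irreducibleComponent⟩)
  have hag : ∀ a b : J, pullback.fst (O a).ι (O b).ι ≫ σ a = pullback.snd _ _ ≫ σ b := fun a b => by
    by_cases hab : a = b
    · subst hab
      rw [show pullback.fst (O a).ι (O a).ι = pullback.snd (O a).ι (O a).ι from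
        (cancel_mono (O a).ι).1 pullback.condition]
    · haveI : IsEmpty ↥(pullback (O a).ι (O b).ι) := ⟨fun z => hab (Subtype.ext (component_eq hZ a.2 b.2
        (pullback.fst (O a).ι (O b).ι z).2 (by
          have := congrArg (fun f : pullback (O a).ι (O b).ι ⟶ Z => f z) pullback.condition
          show (O a).ι (pullback.fst (O a).ι (O b).ι z) ∈ b.1
          rw [← Scheme.Hom.comp_apply]
          rw [this]
          exact (pullback.snd (O a).ι (O b).ι z).2)))⟩
      exact isInitialOfIsEmpty.hom_ext _ _
  refine ⟨𝒰.glueMorphisms σ hag, 𝒰.hom_ext _ _ fun a => ?_, ?_⟩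
  · exact ((Category.assoc _ _ _).symm.trans (congrArg (· ≫ g) (𝒰.ι_glueMorphisms σ hag a))).trans
      ((hσ a).trans (Category.comp_id _).symm)
  · refine Scheme.Cover.hom_ext (𝒰.pullback₁ i) _ _ fun a => ?_
    show pullback.fst i (O a).ι ≫ i ≫ _ = pullback.fst i (O a).ι ≫ t₀
    rw [pullback.condition_assoc, ← hσ₀ a]
    exact congrArg (_ ≫ ·) (𝒰.ι_glueMorphisms σ hag a)

include hZ in
/-- A section of a finite morphism from a normal scheme to a normal scheme is an open immersion. -/
theorem isOpenImmersion_section {P : Scheme.{u}} [IsLocallyNoetherian P] (hP : Pi1.IsNormalScheme P)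
    (g : P ⟶ Z) [IsFinite g] (σ : Z ⟶ P) (hσ : σ ≫ g = 𝟙 Z) : IsOpenImmersion σ := by
  haveI : IsIso (σ ≫ g) := by rw [hσ]; infer_instance
  haveI : IsClosedImmersion σ := IsClosedImmersion.of_comp σ g
  have hgs : ∀ z, g (σ z) = z := fun z => by rw [← Scheme.Hom.comp_apply, hσ]; rfl
  have hop : IsOpen (Set.range σ) := by
    rw [isOpen_iff_forall_mem_open]
    rintro _ ⟨z, rfl⟩
    have hC := irreducibleComponent_mem_irreducibleComponents (σ z)
    refine ⟨_, ?_, isOpen_component hP _ hC, mem_irreducibleComponent⟩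
    obtain ⟨η, hη⟩ := QuasiSober.sober (isIrreducible_irreducibleComponent (x := z)) isClosed_irreducibleComponent
    have hηz : η ⤳ z := hη.specializes mem_irreducibleComponent
    obtain ⟨m, hm⟩ := QuasiSober.sober (isIrreducible_irreducibleComponent (x := σ z)) isClosed_irreducibleComponent
    have hw : σ η ∈ irreducibleComponent (σ z) := by
      have h1 : irreducibleComponent (σ η) = irreducibleComponent (σ z) :=
        component_eq hP (irreducibleComponent_mem_irreducibleComponents _) hC
          (isClosed_irreducibleComponent.closure_subset_iff.2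
            (Set.singleton_subset_iff.2 mem_irreducibleComponent) (hηz.map σ.continuous).mem_closure)
          mem_irreducibleComponent
      exact h1 ▸ mem_irreducibleComponent
    have hmw : m ⤳ σ η := hm.specializes hw
    have hgm : g m = g (σ η) := by
      rw [hgs]
      have h1 : g m ⤳ η := hgs η ▸ hmw.map g.continuous
      have h2 : irreducibleComponent z ⊆ closure {g m} :=
        hη.def.symm.subset.trans (specializes_iff_closure_subset.1 h1)
      have h3 := (irreducibleComponent_property z).2.2 _ isIrreducible_singleton.closure.isPreirreducible h2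
      have h4 : IsGenericPoint (g m) (irreducibleComponent z) := h3
      exact h4.eq hη
    have hmeq : m = σ η := by
      haveI := isDiscrete_iff_discreteTopology.1 (g.isDiscrete_preimage_singleton (g (σ η)))
      have hs : (⟨m, hgm⟩ : g ⁻¹' {g (σ η)}) ⤳ ⟨σ η, rfl⟩ := (subtype_specializes_iff _ _).2 hmw
      exact congrArg Subtype.val (hs.eq)
    rw [← hm.def, hmeq]
    exact closure_minimal (Set.singleton_subset_iff.2 ⟨η, rfl⟩) σ.isClosedEmbedding.isClosed_range
  let W : P.Opens := ⟨Set.range σ, hop⟩
  let c := IsOpenImmersion.lift W.ι σ (by rw [Scheme.Opens.range_ι]; rfl)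
  have hc : c ≫ W.ι = σ := IsOpenImmersion.lift_fac _ _ _
  haveI : IsClosedImmersion (c ≫ W.ι) := by rw [hc]; infer_instance
  haveI : IsClosedImmersion c := IsClosedImmersion.of_comp c W.ι
  haveI : Surjective c := ⟨fun w => by
    obtain ⟨z, hz⟩ := w.2
    refine ⟨z, W.ι.isOpenEmbedding.injective ?_⟩
    rw [← Scheme.Hom.comp_apply, hc]
    exact hz⟩
  haveI := isReduced_normal hP
  haveI : IsReduced (W : Scheme.{u}) := isReduced_of_isOpenImmersion W.ι
  haveI : IsIso c := isIso_of_isClosedImmersion_of_surjective c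
  rw [← hc]
  infer_instance

omit [IsLocallyNoetherian Z] in
include hZ in
theorem isNormal_smooth {X : Scheme.{u}} (f : X ⟶ Z) [Smooth f] : Pi1.IsNormalScheme X := fun x => by
  haveI := (hZ (f x)).1
  haveI := (hZ (f x)).2
  exact UnrMono.isNormal_stalk_of_smooth f x

omit [IsLocallyNoetherian Z] in
/-- If a smooth morphism to the base factors through a smooth morphism, the image consists of smooth
points. -/
theorem range_subset_smoothLocus {T X : Scheme.{u}} (π : T ⟶ Z) [LocallyOfFinitePresentation π]
    (h : X ⟶ T) [Smooth h] [Smooth (h ≫ π)] : Set.range h ⊆ π.smoothLocus := by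
  let T₁ : T.Opens := ⟨Set.range h, h.isOpenMap.isOpen_range⟩
  let c := IsOpenImmersion.lift T₁.ι h (by rw [Scheme.Opens.range_ι]; rfl)
  have hc : c ≫ T₁.ι = h := IsOpenImmersion.lift_fac _ _ _
  haveI : Smooth (c ≫ T₁.ι) := by rw [hc]; infer_instance
  haveI : Smooth c := MorphismProperty.of_postcomp (W := @Smooth) (W' := @IsOpenImmersion) c T₁.ι inferInstance (by rw [hc]; infer_instance)
  haveI : Surjective c := ⟨fun w => by
    obtain ⟨z, hz⟩ := w.2
    refine ⟨z, T₁.ι.isOpenEmbedding.injective ?_⟩
    rw [← Scheme.Hom.comp_apply, hc]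
    exact hz⟩
  haveI : Smooth (T₁.ι ≫ π) := FppfSource.fppfSourceDescends_smooth c _ inferInstance inferInstance
    inferInstance (by rw [← Category.assoc, hc]; infer_instance)
  rintro t ht
  have h1 : (⟨t, ht⟩ : (T₁ : Scheme.{u})) ∈ T₁.ι ⁻¹ᵁ π.smoothLocus := by
    rw [Scheme.Hom.preimage_smoothLocus_eq, Scheme.Hom.smoothLocus_eq_top]
    trivial
  exact h1

end GrothLib.NeronFin13
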